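import Mathlib
import Groth.Agent.Lib.Helper1.ComplFlat

set_option autoImplicit false
universe u

namespace Groth.Agent.H8.StalkFlat

open Function

/-- flatness transfers along a surjective ring hom and a compatible additive isomorphism -/
theorem flat_of_surjective_semilinear {S S' : Type u} [CommRing S] [CommRing S'] (ψ : S →+* S')
    (hψ : Surjective ψ) {P P' : Type u} [AddCommGroup P] [Module S P] [AddCommGroup P']
    [Module S' P'] (e : P ≃+ P') (he : ∀ (s : S) (p : P), e (s • p) = ψ s • e p)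
    [Module.Flat S P] : Module.Flat S' P' := by
  apply Module.Flat.of_forall_isTrivialRelation
  intro l f x hfx
  choose g hg using hψ
  have h1 : ∑ i, g (f i) • e.symm (x i) = 0 := by
    apply e.injective
    rw [map_sum, map_zero, ← hfx]
    refine Finset.sum_congr rfl fun i _ => ?_
    rw [he, hg, AddEquiv.apply_symm_apply]
  obtain ⟨k, a, y, hxy, hfa⟩ := Module.Flat.isTrivialRelation_of_sum_smul_eq_zero h1
  refine ⟨k, fun i j => ψ (a i j), fun j => e (y j), ?_, ?_⟩
  · intro i
    have h2 : e.symm (x i) = ∑ j, a i j • y j := hxy i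
    have h3 := congrArg e h2
    rw [AddEquiv.apply_symm_apply, map_sum] at h3
    rw [h3]
    exact Finset.sum_congr rfl fun j _ => he _ _
  · intro j
    have h3 : ∑ i, g (f i) * a i j = 0 := hfa j
    have h4 := congrArg ψ h3
    rw [map_sum, map_zero] at h4
    rw [← h4]
    refine Finset.sum_congr rfl fun i _ => ?_
    rw [map_mul, hg]

/-- A module over a Noetherian ring `R`, adically complete for the extension of an ideal `I₀` of a
ring `R₀` with dense image in `R`, is flat over `R` as soon as it is flat over `R₀`. -/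
theorem flat_of_dense {R₀ R : Type u} [CommRing R₀] [CommRing R] [IsNoetherianRing R]
    [Algebra R₀ R] (I₀ : Ideal R₀) {N : Type u} [AddCommGroup N] [Module R₀ N] [Module R N]
    [IsScalarTower R₀ R N] [Module.Flat R₀ N] [IsHausdorff I₀ N] [IsPrecomplete I₀ N]
    (hdense : ∀ (m : ℕ) (r : R), ∃ a : R₀,
      r - algebraMap R₀ R a ∈ (I₀.map (algebraMap R₀ R)) ^ m) :
    Module.Flat R N := by
  haveI : IsHausdorff (I₀.map (algebraMap R₀ R)) N :=
    (IsHausdorff.map_algebraMap_iff (I := I₀) (M := N) (S := R)).mpr inferInstance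
  haveI : IsPrecomplete (I₀.map (algebraMap R₀ R)) N :=
    (IsPrecomplete.map_algebraMap_iff (I := I₀) (M := N) (S := R)).mpr inferInstance
  refine Groth.Agent.H1.ComplFlat.flat_of_flat_quotients (I₀.map (algebraMap R₀ R)) fun m => ?_
  haveI flat0 : Module.Flat (R₀ ⧸ I₀ ^ m) (N ⧸ (I₀ ^ m • ⊤ : Submodule R₀ N)) :=
    Groth.Agent.H1.ComplFlat.flat_quotient_of_flat N (I₀ ^ m)
  have hle : I₀ ^ m ≤ ((I₀.map (algebraMap R₀ R)) ^ m).comap (algebraMap R₀ R) := by
    rw [← Ideal.map_le_iff_le_comap, Ideal.map_pow]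
  have heq : (I₀ ^ m • ⊤ : Submodule R₀ N) =
      (((I₀.map (algebraMap R₀ R)) ^ m • ⊤ : Submodule R N)).restrictScalars R₀ := by
    rw [← Ideal.map_pow, Ideal.smul_restrictScalars, Submodule.restrictScalars_top]
  let e : (N ⧸ (I₀ ^ m • ⊤ : Submodule R₀ N)) ≃ₗ[R₀]
      N ⧸ ((I₀.map (algebraMap R₀ R)) ^ m • ⊤ : Submodule R N) :=
    (Submodule.quotEquivOfEq _ _ heq) ≪≫ₗ
      (Submodule.Quotient.restrictScalarsEquiv R₀
        ((I₀.map (algebraMap R₀ R)) ^ m • ⊤ : Submodule R N))
  refine flat_of_surjective_semilinear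
    (Ideal.quotientMap ((I₀.map (algebraMap R₀ R)) ^ m) (algebraMap R₀ R) hle) ?_ e.toAddEquiv ?_
  · intro x
    obtain ⟨r, rfl⟩ := Ideal.Quotient.mk_surjective x
    obtain ⟨a, ha⟩ := hdense m r
    refine ⟨Ideal.Quotient.mk _ a, ?_⟩
    rw [Ideal.quotientMap_mk]
    exact (Ideal.Quotient.eq.mpr ha).symm
  · intro s p
    obtain ⟨a, rfl⟩ := Ideal.Quotient.mk_surjective s
    obtain ⟨x, rfl⟩ := Submodule.Quotient.mk_surjective _ p
    rw [Ideal.quotientMap_mk]
    change (Submodule.Quotient.mk (a • x) :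
        N ⧸ ((I₀.map (algebraMap R₀ R)) ^ m • ⊤ : Submodule R N)) =
      Submodule.Quotient.mk (algebraMap R₀ R a • x)
    rw [algebraMap_smul]

/-- Noetherianity descends along faithfully flat ring maps. -/
theorem isNoetherianRing_of_faithfullyFlat (S B : Type*) [CommRing S] [CommRing B] [Algebra S B]
    [Module.FaithfullyFlat S B] [IsNoetherianRing B] : IsNoetherianRing S := by
  rw [isNoetherianRing_iff, isNoetherian_iff']
  have hmono : StrictMono (Ideal.map (algebraMap S B)) :=
    Monotone.strictMono_of_injective (fun _ _ h => Ideal.map_mono h)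
      Ideal.map_injective_of_faithfullyFlat
  exact hmono.wellFoundedGT

end Groth.Agent.H8.StalkFlat
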