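import Mathlib
import Groth.Prelude.Def_FSch3
import Groth.Agent.Lib.Helper2.CAway
import Groth.Agent.Lib.Helper8.StalkFlat.Abs
import Groth.Agent.S0543

set_option autoImplicit false
universe u

namespace Groth.Agent.H8.StalkFlat

open Groth.Agent.H2.CAway

theorem exists_sub_mem {R : Type u} [CommRing R] (I : Ideal R) (fg : I.FG) (m : ℕ)
    (r : AdicCompletion I R) :
    ∃ a : R, r - algebraMap R (AdicCompletion I R) a ∈
      (I.map (algebraMap R (AdicCompletion I R))) ^ m := by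
  obtain ⟨a, ha⟩ := Ideal.Quotient.mk_surjective (AdicCompletion.evalₐ I m r)
  refine ⟨a, ?_⟩
  rw [← ker_evalₐ_eq_map I fg m, RingHom.mem_ker]
  change AdicCompletion.evalₐ I m (r - algebraMap R (AdicCompletion I R) a) = 0
  rw [map_sub, sub_eq_zero, ← ha]
  exact (AdicCompletion.evalₐ_of I m a).symm

theorem trivial_of_flat {R B : Type u} [CommRing R] [CommRing B] (φ : R →+* B) (hφ : φ.Flat)
    {l : ℕ} (r : Fin l → R) (x : Fin l → B) (h : ∑ i, φ (r i) * x i = 0) :
    ∃ (k : ℕ) (a : Fin l → Fin k → R) (y : Fin k → B),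
      (∀ i, x i = ∑ j, φ (a i j) * y j) ∧ ∀ j, ∑ i, r i * a i j = 0 := by
  letI := φ.toAlgebra
  have hflat : Module.Flat R B := hφ
  exact Module.Flat.iff_forall_isTrivialRelation.mp hflat h

theorem isAdicComplete_of_eq {R M : Type*} [CommRing R] [AddCommGroup M] [Module R M]
    {I I' : Ideal R} (h : I = I') [IsAdicComplete I M] : IsAdicComplete I' M := by
  subst h; infer_instance

section

variable (A : Type u) [CommRing A] (J : Ideal A) (𝔭 : Ideal A) [𝔭.IsPrime]

theorem map_awayToAtPrime_eq (f : A) (hf : f ∉ 𝔭) :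
    (J.map (algebraMap A (Localization.Away f))).map (FSch.awayToAtPrime A 𝔭 f hf) =
      J.map (algebraMap A (Localization.AtPrime 𝔭)) := by
  rw [Ideal.map_map]
  congr 1
  ext a
  simp [FSch.awayToAtPrime]

theorem isLocalRing_cAtPrime (hJ : J ≤ 𝔭) : IsLocalRing (FSch.cAtPrime A J 𝔭) := by
  have hnt : Nontrivial (FSch.cAtPrime A J 𝔭) := by
    refine ⟨⟨0, 1, fun h => ?_⟩⟩
    have h1 := congrArg (AdicCompletion.evalₐ (J.map (algebraMap A (Localization.AtPrime 𝔭))) 1) h
    rw [map_zero, map_one] at h1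
    have : Nontrivial (Localization.AtPrime 𝔭 ⧸
        J.map (algebraMap A (Localization.AtPrime 𝔭)) ^ 1) :=
      Ideal.Quotient.nontrivial_iff.mpr (map_ne_top A J 𝔭 hJ)
    exact zero_ne_one h1
  apply IsLocalRing.of_nonunits_add
  intro a b ha hb
  exact cAtPrime_nonunits_add A J 𝔭 hJ a b ha hb

end

section

variable (A : Type u) [CommRing A] [IsNoetherianRing A] (J : Ideal A) (𝔭 : Ideal A) [𝔭.IsPrime]

theorem flat_cAway (f : A) (hf : f ∉ 𝔭) : (FSch.cAwayToAtPrime A J 𝔭 f hf).Flat := by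
  letI algfp : Algebra (Localization.Away f) (Localization.AtPrime 𝔭) :=
    (FSch.awayToAtPrime A 𝔭 f hf).toAlgebra
  haveI tower1 : IsScalarTower A (Localization.Away f) (Localization.AtPrime 𝔭) :=
    IsScalarTower.of_algebraMap_eq fun a => (awayToAtPrime_algebraMap A 𝔭 f hf a).symm
  haveI loc : IsLocalization ((𝔭.primeCompl).map (algebraMap A (Localization.Away f)))
      (Localization.AtPrime 𝔭) :=
    IsLocalization.isLocalization_of_submonoid_le (Localization.Away f) (Localization.AtPrime 𝔭)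
      (Submonoid.powers f) 𝔭.primeCompl (by
        rw [Submonoid.powers_le]; exact hf)
  haveI flat1 : Module.Flat (Localization.Away f) (Localization.AtPrime 𝔭) :=
    IsLocalization.flat (Localization.AtPrime 𝔭)
      ((𝔭.primeCompl).map (algebraMap A (Localization.Away f)))
  haveI tower2 : IsScalarTower (Localization.Away f) (Localization.AtPrime 𝔭)
      (FSch.cAtPrime A J 𝔭) := IsScalarTower.of_algebraMap_eq fun a => rfl
  haveI flat2 : Module.Flat (Localization.Away f) (FSch.cAtPrime A J 𝔭) :=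
    Module.Flat.trans (Localization.Away f) (Localization.AtPrime 𝔭) (FSch.cAtPrime A J 𝔭)
  letI algRB : Algebra (FSch.cAway A J f) (FSch.cAtPrime A J 𝔭) :=
    (FSch.cAwayToAtPrime A J 𝔭 f hf).toAlgebra
  haveI tower3 : IsScalarTower (Localization.Away f) (FSch.cAway A J f) (FSch.cAtPrime A J 𝔭) :=
    IsScalarTower.of_algebraMap_eq fun a => by
      change AdicCompletion.of _ _ (FSch.awayToAtPrime A 𝔭 f hf a) =
        FSch.cAwayToAtPrime A J 𝔭 f hf (AdicCompletion.of _ _ a)
      rw [FSch.cAwayToAtPrime, complMap_of]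
  haveI noeth : IsNoetherianRing (FSch.cAway A J f) := Groth.Agent.S0543.result _ _
  have fgp : (J.map (algebraMap A (Localization.AtPrime 𝔭))).FG := IsNoetherian.noetherian _
  have fgf : (J.map (algebraMap A (Localization.Away f))).FG := IsNoetherian.noetherian _
  haveI h0 : IsAdicComplete (J.map (algebraMap A (Localization.AtPrime 𝔭)))
      (FSch.cAtPrime A J 𝔭) := AdicCompletion.isAdicComplete fgp
  haveI h1 : IsAdicComplete ((J.map (algebraMap A (Localization.Away f))).map
      (algebraMap (Localization.Away f) (Localization.AtPrime 𝔭))) (FSch.cAtPrime A J 𝔭) :=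
    isAdicComplete_of_eq (I := J.map (algebraMap A (Localization.AtPrime 𝔭)))
      (map_awayToAtPrime_eq A J 𝔭 f hf).symm
  haveI complete : IsAdicComplete (J.map (algebraMap A (Localization.Away f)))
      (FSch.cAtPrime A J 𝔭) :=
    (IsAdicComplete.map_algebraMap_iff (I := J.map (algebraMap A (Localization.Away f)))
      (M := FSch.cAtPrime A J 𝔭) (S := Localization.AtPrime 𝔭)).mp h1
  exact flat_of_dense (J.map (algebraMap A (Localization.Away f)))
    (fun m r => exists_sub_mem _ fgf m r)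

theorem flat_stalkSubring :
    Module.Flat (FSch.stalkSubring A J 𝔭) (FSch.cAtPrime A J 𝔭) := by
  classical
  apply Module.Flat.of_forall_isTrivialRelation
  intro l s x hsx
  choose h hh hmem using fun i => (mem_stalkSubring_iff A J 𝔭 (s i).1).mp (s i).2
  have hH : (∏ i, h i) ∉ 𝔭 := by
    rw [Ideal.IsPrime.prod_mem_iff]
    rintro ⟨i, -, hi⟩
    exact hh i hi
  have hmem' : ∀ i, (s i : FSch.cAtPrime A J 𝔭) ∈
      (FSch.cAwayToAtPrime A J 𝔭 (∏ i, h i) hH).range :=
    fun i => range_le_range_of_dvd A J 𝔭 (h i) _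
      (Finset.dvd_prod_of_mem h (Finset.mem_univ i)) (hh i) hH (hmem i)
  choose r hr using hmem'
  have h1 : ∑ i, FSch.cAwayToAtPrime A J 𝔭 (∏ i, h i) hH (r i) * x i = 0 := by
    rw [← hsx]
    refine Finset.sum_congr rfl fun i _ => ?_
    rw [hr i]
    rfl
  obtain ⟨k, a, y, hxy, hfa⟩ := trivial_of_flat _ (flat_cAway A J 𝔭 _ hH) r x h1
  have hle : (FSch.cAwayToAtPrime A J 𝔭 (∏ i, h i) hH).range ≤ FSch.stalkSubring A J 𝔭 :=
    le_iSup (fun f : {f : A // f ∉ 𝔭} => (FSch.cAwayToAtPrime A J 𝔭 f.1 f.2).range) ⟨_, hH⟩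
  refine ⟨k, fun i j => ⟨FSch.cAwayToAtPrime A J 𝔭 (∏ i, h i) hH (a i j), hle ⟨a i j, rfl⟩⟩,
    y, ?_, ?_⟩
  · intro i
    rw [hxy i]
    rfl
  · intro j
    apply (FSch.stalkSubring A J 𝔭).subtype_injective
    have h4 := congrArg (FSch.cAwayToAtPrime A J 𝔭 (∏ i, h i) hH) (hfa j)
    rw [map_sum, map_zero] at h4
    rw [map_sum, map_zero, ← h4]
    refine Finset.sum_congr rfl fun i _ => ?_
    rw [map_mul, map_mul, hr i]
    rfl

theorem faithfullyFlat_stalkSubring (hJ : J ≤ 𝔭) :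
    Module.FaithfullyFlat (FSch.stalkSubring A J 𝔭) (FSch.cAtPrime A J 𝔭) := by
  obtain ⟨h1, h2⟩ := stalkSubring_isLocal A J 𝔭 hJ
  haveI := h1
  haveI := isLocalRing_cAtPrime A J 𝔭 hJ
  haveI : IsLocalHom (algebraMap (FSch.stalkSubring A J 𝔭) (FSch.cAtPrime A J 𝔭)) := h2
  haveI := flat_stalkSubring A J 𝔭
  exact Module.FaithfullyFlat.of_flat_of_isLocalHom

theorem isNoetherianRing_stalkSubring (hJ : J ≤ 𝔭) :
    IsNoetherianRing (FSch.stalkSubring A J 𝔭) := by
  haveI := faithfullyFlat_stalkSubring A J 𝔭 hJ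
  haveI : IsNoetherianRing (FSch.cAtPrime A J 𝔭) := Groth.Agent.S0543.result _ _
  exact isNoetherianRing_of_faithfullyFlat (FSch.stalkSubring A J 𝔭) (FSch.cAtPrime A J 𝔭)

end

end Groth.Agent.H8.StalkFlat
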