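import Mathlib
import Groth.Prelude.Def_FSch3
import Groth.Agent.Lib.Helper8.StalkFlat.Conc
import Groth.Agent.Lib.Helper9.Misc.FLH1

set_option autoImplicit false
universe u

namespace Groth.Agent.H8.StalkFlat

theorem flat_toStalkSubring
    (A : Type u) [CommRing A] [IsNoetherianRing A] (J 𝔭 : Ideal A) [𝔭.IsPrime] (hJ : J ≤ 𝔭)
    (h : ∀ a : A, ((algebraMap (Localization.AtPrime 𝔭) (FSch.cAtPrime A J 𝔭)).comp
      (algebraMap A (Localization.AtPrime 𝔭))) a ∈ FSch.stalkSubring A J 𝔭) :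
    (((algebraMap (Localization.AtPrime 𝔭) (FSch.cAtPrime A J 𝔭)).comp
      (algebraMap A (Localization.AtPrime 𝔭))).codRestrict (FSch.stalkSubring A J 𝔭) h).Flat := by
  letI algAS : Algebra A (FSch.stalkSubring A J 𝔭) :=
    (((algebraMap (Localization.AtPrime 𝔭) (FSch.cAtPrime A J 𝔭)).comp
      (algebraMap A (Localization.AtPrime 𝔭))).codRestrict (FSch.stalkSubring A J 𝔭) h).toAlgebra
  haveI tower : IsScalarTower A (FSch.stalkSubring A J 𝔭) (FSch.cAtPrime A J 𝔭) :=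
    IsScalarTower.of_algebraMap_eq fun a => rfl
  haveI tower2 : IsScalarTower A (Localization.AtPrime 𝔭) (FSch.cAtPrime A J 𝔭) :=
    IsScalarTower.of_algebraMap_eq fun a => rfl
  haveI flat1 : Module.Flat A (FSch.cAtPrime A J 𝔭) :=
    Module.Flat.trans A (Localization.AtPrime 𝔭) (FSch.cAtPrime A J 𝔭)
  haveI ff := faithfullyFlat_stalkSubring A J 𝔭 hJ
  exact Groth.Agent.H9.FLH.flat_of_faithfullyFlat_tower A (FSch.stalkSubring A J 𝔭)
    (FSch.cAtPrime A J 𝔭)

end Groth.Agent.H8.StalkFlat
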